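import Cfsg.Agent.H954.LD.Row
import Cfsg.Agent.H175.Eight.J1
import Cfsg.Agent.OddHalf.D4.Spor.J1Out

/-!
# S4910: the row of `J₁` (helper55): degrees 76 and 77, `Out = 1`
-/

set_option autoImplicit false
set_option linter.unusedVariables false

namespace Cfsg.Agent.H55.LD

open Cfsg

universe u

/-- `Out(J₁) = 1` -/
theorem card_out_j1 {S : Type u} [Group S] (h : Spor.IsoJ1 S) : Nat.card (Out S) = 1 := by
  obtain ⟨e⟩ := h
  have h1 : Inn S = ⊤ := by
    rw [eq_top_iff]
    intro τ _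
    obtain ⟨k, hk⟩ := OddHalf.D4.Spor.J1Out.inn (MulAut.congr e τ)
    refine ⟨e.symm k, ?_⟩
    ext x
    have h1 : MulAut.congr e τ (e x) = k * e x * k⁻¹ := by
      rw [hk]
      rfl
    have h2 : MulAut.congr e τ (e x) = e (τ x) := by
      show e (τ (e.symm (e x))) = _
      rw [e.symm_apply_apply]
    rw [h2] at h1
    have h3 := congrArg e.symm h1
    rw [e.symm_apply_apply, map_mul, map_mul, map_inv, e.symm_apply_apply] at h3
    exact h3.symm
  show (Inn S).index = 1
  rw [h1, Subgroup.index_top]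

/-- **the row of `J₁`** -/
theorem row_J1 {S : Type u} [Group S] [Finite S] [IsSimpleGroup S] (hna : ¬ IsMulCommutative S) (h : Spor.IsoJ1 S) :
    Cfsg.Agent.H954.LD.CopRow S := by
  obtain ⟨α, hα⟩ := (H175.Eight.mem_j1 h 76).2 (by decide)
  obtain ⟨β, hβ⟩ := (H175.Eight.mem_j1 h 77).2 (by decide)
  refine Cfsg.Agent.H954.LD.copRow_one hna (card_out_j1 h) (α := α) (β := β) ?_ ?_ ?_
  · rw [hα]; norm_num
  · rw [hβ]; norm_num
  · rw [hα, hβ]; norm_num

end Cfsg.Agent.H55.LD
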